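import Groth.Agent.Lib.MVSq.Compact
import Mathlib.CategoryTheory.Triangulated.Subcategory
import Mathlib.CategoryTheory.Triangulated.Generators

/-!
# Compact objects form a triangulated subcategory
-/

open CategoryTheory CategoryTheory.Limits CategoryTheory.Pretriangulated ZeroObject

namespace Groth.Agent.DerLimC

universe v u

open Groth.Agent.MVSqLib

variable {D : Type u} [Category.{v} D] [Preadditive D] [HasCoproducts.{v} D]

theorem exists_sum {C : D} (h : CohDer.IsCompactObject C) {ι : Type v} {X : ι → D} (φ : C ⟶ ∐ X) :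
    ∃ (s : Finset ι) (u : ∀ i, C ⟶ X i), φ = ∑ i ∈ s, u i ≫ Sigma.ι X i := by
  classical
  obtain ⟨x, rfl⟩ := (h ι X).2 φ
  refine ⟨DFinsupp.support x, fun i => x i, ?_⟩
  conv_lhs => rw [← DirectSum.sum_support_of x, map_sum]
  refine Finset.sum_congr rfl fun i _ => ?_
  unfold CohDer.homSumToHomCoprod
  convert DirectSum.toAddMonoid_of (fun j => Preadditive.rightComp C (Sigma.ι X j)) i (x i) using 1 <;> first | rfl | congr!

theorem eq_zero {C : D} (h : CohDer.IsCompactObject C) {ι : Type v} {X : ι → D} {s : Finset ι}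
    {u : ∀ i, C ⟶ X i} (h0 : ∑ i ∈ s, u i ≫ Sigma.ι X i = 0) : ∀ i ∈ s, u i = 0 := by
  classical
  intro i hi
  have hx : ∑ j ∈ s, DirectSum.of (fun i => C ⟶ X i) j (u j) = 0 := (h ι X).1 (by
    rw [map_sum, map_zero, ← h0]
    refine Finset.sum_congr rfl fun j _ => ?_
    unfold CohDer.homSumToHomCoprod
    convert DirectSum.toAddMonoid_of (fun j => Preadditive.rightComp C (Sigma.ι X j)) j (u j) using 1 <;> first | rfl | congr!)
  have := DFunLike.congr_fun hx i
  rw [DFinsupp.finsetSum_apply, Finset.sum_eq_single i (fun j _ hji => DirectSum.of_eq_of_ne _ _ _ (Ne.symm hji))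
    (fun h => absurd hi h), DirectSum.of_eq_same] at this
  exact this

/-- Criterion for compactness by finite sums. -/
theorem mk_compact {C : D} (hS : ∀ (ι : Type v) (X : ι → D) (φ : C ⟶ ∐ X),
      ∃ (s : Finset ι) (u : ∀ i, C ⟶ X i), φ = ∑ i ∈ s, u i ≫ Sigma.ι X i)
    (hI : ∀ (ι : Type v) (X : ι → D) (s : Finset ι) (u : ∀ i, C ⟶ X i),
      ∑ i ∈ s, u i ≫ Sigma.ι X i = 0 → ∀ i ∈ s, u i = 0) : CohDer.IsCompactObject C := by
  classical
  refine (Cpt.of_sums (F := 𝟭 D) (K := C) (fun ι X φ => ?_) hI).compact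
  obtain ⟨s, u, hu⟩ := hS ι X φ
  refine AddMonoidHom.mem_range.2 ⟨∑ i ∈ s, DirectSum.of _ i (u i), ?_⟩
  rw [map_sum]
  exact (Finset.sum_congr rfl fun i _ => sumTo_of (𝟭 D) C X i (u i)).trans hu.symm

theorem of_retract {A B : D} (r : Retract A B) (h : CohDer.IsCompactObject B) :
    CohDer.IsCompactObject A := by
  refine mk_compact (fun ι X φ => ?_) fun ι X s u h0 i hi => ?_
  · obtain ⟨s, u, hu⟩ := exists_sum h (r.r ≫ φ)
    refine ⟨s, fun i => r.i ≫ u i, ?_⟩
    simp only [Category.assoc, ← Preadditive.comp_sum, ← hu, r.retract_assoc]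
  · have h1 := eq_zero h (s := s) (u := fun i => r.r ≫ u i)
      (by simp only [Category.assoc, ← Preadditive.comp_sum, h0, comp_zero]) i hi
    rw [← r.retract_assoc (u i), h1, comp_zero]

variable [HasZeroObject D] [HasShift D ℤ] [∀ n : ℤ, (shiftFunctor D n).Additive] [Pretriangulated D]

theorem of_triangle (T : Triangle D) (hT : T ∈ distTriang D) (h₁ : CohDer.IsCompactObject T.obj₁)
    (h₃ : CohDer.IsCompactObject T.obj₃) : CohDer.IsCompactObject T.obj₂ := by
  classical
  have h1' : CohDer.IsCompactObject ((shiftFunctor D (1 : ℤ)).obj T.obj₁) := Cpt.compact_shift h₁ 1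
  have h3' : CohDer.IsCompactObject T.invRotate.obj₁ := Cpt.compact_shift h₃ (-1)
  refine mk_compact (fun ι X φ => ?_) fun ι X s u h0 i hi => ?_
  · obtain ⟨s, u, hu⟩ := exists_sum h₁ (T.mor₁ ≫ φ)
    have hu0 : ∀ i ∈ s, T.invRotate.mor₁ ≫ u i = 0 := eq_zero h3' (by
      have h0 : T.invRotate.mor₁ ≫ T.mor₁ = 0 :=
        comp_distTriang_mor_zero₁₂ _ (inv_rot_of_distTriang _ hT)
      have e : T.invRotate.mor₁ ≫ (∑ i ∈ s, u i ≫ Sigma.ι X i) = 0 :=
        (congrArg (fun t : T.obj₁ ⟶ ∐ X => T.invRotate.mor₁ ≫ t) hu).symm.trans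
          ((Category.assoc _ _ _).symm.trans ((congrArg (fun t => t ≫ φ) h0).trans zero_comp))
      rw [Preadditive.comp_sum] at e
      refine Eq.trans (Finset.sum_congr rfl fun i _ => ?_) e
      exact Category.assoc _ _ _)
    have hv : ∀ i, ∃ v : T.obj₂ ⟶ X i, i ∈ s → u i = T.mor₁ ≫ v := fun i => by
      by_cases hi : i ∈ s
      · obtain ⟨v, hv⟩ := Triangle.yoneda_exact₂ _ (inv_rot_of_distTriang _ hT) (u i) (hu0 i hi)
        exact ⟨v, fun _ => hv⟩
      · exact ⟨0, fun h => absurd h hi⟩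
    choose v hv using hv
    obtain ⟨χ, hχ⟩ := Triangle.yoneda_exact₂ _ hT (φ - ∑ i ∈ s, v i ≫ Sigma.ι X i) (by
      rw [Preadditive.comp_sub, hu, Preadditive.comp_sum, sub_eq_zero]
      exact Finset.sum_congr rfl fun i hi => by rw [← Category.assoc, ← hv i hi])
    obtain ⟨t, w, hw⟩ := exists_sum h₃ χ
    refine ⟨s ∪ t, fun i => (if i ∈ s then v i else 0) + (if i ∈ t then T.mor₂ ≫ w i else 0), ?_⟩
    simp only [Preadditive.add_comp, Finset.sum_add_distrib, ite_comp, zero_comp]
    rw [← Finset.sum_filter, ← Finset.sum_filter, Finset.filter_mem_eq_inter, Finset.filter_mem_eq_inter,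
      Finset.inter_eq_right.2 Finset.subset_union_left, Finset.inter_eq_right.2 Finset.subset_union_right]
    rw [show φ = (φ - ∑ i ∈ s, v i ≫ Sigma.ι X i) + ∑ i ∈ s, v i ≫ Sigma.ι X i from (sub_add_cancel _ _).symm,
      hχ, hw, Preadditive.comp_sum, add_comm]
    simp [Category.assoc]
  · have hu : ∀ i ∈ s, T.mor₁ ≫ u i = 0 := eq_zero h₁ (by
      simp only [Category.assoc, ← Preadditive.comp_sum, h0, comp_zero])
    have hx : ∀ i, ∃ x : T.obj₃ ⟶ X i, i ∈ s → u i = T.mor₂ ≫ x := fun i => by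
      by_cases hi : i ∈ s
      · obtain ⟨x, hx⟩ := Triangle.yoneda_exact₂ _ hT (u i) (hu i hi)
        exact ⟨x, fun _ => hx⟩
      · exact ⟨0, fun h => absurd h hi⟩
    choose x hx using hx
    obtain ⟨y, hy⟩ := Triangle.yoneda_exact₃ _ hT (∑ i ∈ s, x i ≫ Sigma.ι X i) (by
      rw [Preadditive.comp_sum]
      refine Eq.trans (Finset.sum_congr rfl fun j hj => ?_) h0
      rw [← Category.assoc, ← hx j hj])
    obtain ⟨t, z, hz⟩ := exists_sum h1' y
    have h3 := eq_zero h₃ (s := s ∪ t) (u := fun i =>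
      (if i ∈ s then x i else 0) - (if i ∈ t then T.mor₃ ≫ z i else 0)) (by
        simp only [Preadditive.sub_comp, Finset.sum_sub_distrib, ite_comp, zero_comp]
        rw [← Finset.sum_filter, ← Finset.sum_filter, Finset.filter_mem_eq_inter,
          Finset.filter_mem_eq_inter, Finset.inter_eq_right.2 Finset.subset_union_left,
          Finset.inter_eq_right.2 Finset.subset_union_right, sub_eq_zero, hy, hz, Preadditive.comp_sum]
        simp [Category.assoc]) i (Finset.mem_union_left _ hi)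
    rw [if_pos hi, sub_eq_zero] at h3
    rw [hx i hi, h3]
    split_ifs
    · rw [← Category.assoc, comp_distTriang_mor_zero₂₃ _ hT, zero_comp]
    · exact comp_zero

theorem isTriangulated : ObjectProperty.IsTriangulated (fun K : D => CohDer.IsCompactObject K) := by
  haveI : ObjectProperty.ContainsZero (fun K : D => CohDer.IsCompactObject K) :=
    ⟨⟨0, isZero_zero D, mk_compact (fun ι X φ => ⟨∅, fun _ => 0, (isZero_zero D).eq_of_src _ _⟩)
      (fun ι X s u _ i _ => (isZero_zero D).eq_of_src _ _)⟩⟩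
  haveI : ObjectProperty.IsStableUnderShift (fun K : D => CohDer.IsCompactObject K) ℤ :=
    ⟨fun a => ⟨fun X hX => Cpt.compact_shift hX a⟩⟩
  haveI : ObjectProperty.IsTriangulatedClosed₂ (fun K : D => CohDer.IsCompactObject K) :=
    ⟨fun T hT h₁ h₃ => ObjectProperty.le_isoClosure _ _ (of_triangle T hT h₁ h₃)⟩
  exact { }

theorem triangEnvelope_compact [IsTriangulated D] {P : ObjectProperty D}
    (hP : ∀ X, P X → CohDer.IsCompactObject X) {X : D} (hX : P.triangEnvelope X) :
    CohDer.IsCompactObject X := by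
  haveI := isTriangulated (D := D)
  haveI : ObjectProperty.IsStableUnderRetracts (fun K : D => CohDer.IsCompactObject K) :=
    ⟨fun r h => of_retract r h⟩
  exact (ObjectProperty.triangEnvelope_le_iff P).2 hP X hX

end Groth.Agent.DerLimC
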